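import Groth.Agent.SymLib.Affine
import Groth.Agent.LFFrame.Basic
import Groth.Prelude.Def_RelProj2

/-! The grading of a graded symmetric algebra over an affine open. -/

noncomputable section

universe u

open CategoryTheory CategoryTheory.Limits AlgebraicGeometry TopologicalSpace Opposite
open scoped HomogeneousIdeal
open RelProj

namespace Groth.Agent.SymLib

variable {S : Scheme.{u}} {E : S.Modules} {𝒮 : QCGrAlg S} {j : E ⟶ 𝒮.toModule}

/-- Products of `d` sections of `E`, as a submodule. -/
def piece (j : E ⟶ 𝒮.toModule) (U : S.Opens) (d : ℕ) :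
    letI := (𝒮.str.app (op U)).hom.toAlgebra
    Submodule Γ(S, U) (𝒮.presheaf.obj (op U)) :=
  letI := (𝒮.str.app (op U)).hom.toAlgebra
  (LinearMap.range
    ({ toFun := fun m => j.app U m
       map_add' := fun a b => map_add _ a b
       map_smul' := fun r m => j.app_smul r m } : Γ(E, U) →ₗ[Γ(S, U)] (𝒮.presheaf.obj (op U) : Type u))) ^ d

variable [E.IsQuasicoherent] (hj : IsGrSymAlg E 𝒮 j) {U : S.Opens} (hU : IsAffineOpen U)
include hj

/-- The degree-`d` part consists of the combinations of products of `d` sections of `E`. -/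
theorem mem_deg_iff {d : ℕ} {x : 𝒮.presheaf.obj (op U)} : x ∈ 𝒮.deg U hU d ↔ x ∈ piece j U d := by
  let := (𝒮.str.app (op U)).hom.toAlgebra
  let A := (𝒮.presheaf.obj (op U) : Type u)
  have hle : ∀ d, ∀ y ∈ piece j U d, y ∈ 𝒮.deg U hU d := by
    intro d
    induction d with
    | zero =>
      intro y hy
      rw [piece, pow_zero, Submodule.mem_one] at hy
      obtain ⟨r, rfl⟩ := hy
      exact 𝒮.str_mem U hU r
    | succ d ih =>
      intro y hy
      rw [piece, pow_succ] at hy
      refine Submodule.mul_induction_on hy (fun a ha b hb => ?_) fun a b ha hb => add_mem ha hb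
      obtain ⟨m, rfl⟩ := hb
      exact SetLike.mul_mem_graded (A := 𝒮.deg U hU) (ih a ha) (hj.2 U hU m)
  have hmul : ∀ a b : A, a ∈ ⨆ d, piece j U d → b ∈ ⨆ d, piece j U d → a * b ∈ ⨆ d, piece j U d := by
    intro a b ha hb
    have h : a * b ∈ (⨆ d, piece j U d) * ⨆ d, piece j U d := Submodule.mul_mem_mul ha hb
    rw [Submodule.iSup_mul] at h
    refine (iSup_le fun i => ?_ : (_ : Submodule Γ(S, U) A) ≤ _) h
    rw [Submodule.mul_iSup]
    refine iSup_le fun k => ?_
    rw [piece, piece, ← pow_add]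
    exact le_iSup (fun d => piece j U d) (i + k)
  have htop : ∀ a : A, a ∈ ⨆ d, piece j U d := by
    intro a
    induction a using affInduction hj.1 hU with
    | hstr r => exact Submodule.mem_iSup_of_mem 0 (by rw [piece, pow_zero, Submodule.mem_one]; exact ⟨r, rfl⟩)
    | hj m => exact Submodule.mem_iSup_of_mem 1 (by rw [piece, pow_one]; exact ⟨m, rfl⟩)
    | hmul a b ha hb => exact hmul a b ha hb
    | hadd a b ha hb => exact add_mem ha hb
  refine ⟨fun hx => ?_, hle d x⟩
  suffices ∀ a ∈ ⨆ i, piece j U i, GradedRing.proj (𝒮.deg U hU) d a ∈ piece j U d by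
    have h := this x (htop x)
    rwa [GradedRing.proj_apply, DirectSum.decompose_of_mem_same (𝒮.deg U hU) hx] at h
  intro a ha
  induction ha using Submodule.iSup_induction' with
  | mem i b hb =>
    rw [GradedRing.proj_apply]
    rcases eq_or_ne i d with rfl | h
    · rwa [DirectSum.decompose_of_mem_same (𝒮.deg U hU) (hle i b hb)]
    · rw [DirectSum.decompose_of_mem_ne (𝒮.deg U hU) (hle i b hb) h]
      exact zero_mem _
  | zero => rw [map_zero]; exact zero_mem _
  | add a b _ _ ha hb => rw [map_add]; exact add_mem ha hb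

theorem isGenDegOne_affine : Subring.closure ((𝒮.deg U hU 0 : Set (𝒮.presheaf.obj (op U))) ∪
    (𝒮.deg U hU 1 : Set _)) = ⊤ := by
  refine eq_top_iff.2 fun a _ => ?_
  clear ‹a ∈ (⊤ : Subring _)›
  induction a using affInduction hj.1 hU with
  | hstr r => exact Subring.subset_closure (Or.inl (𝒮.str_mem U hU r))
  | hj m => exact Subring.subset_closure (Or.inr (hj.2 U hU m))
  | hmul a b ha hb => exact mul_mem ha hb
  | hadd a b ha hb => exact add_mem ha hb

theorem isGenDegOne : 𝒮.IsGenDegOne := fun _ hU => isGenDegOne_affine hj hU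

/-- With a one-element frame `e` over `U`, the degree-`d` part is free on `(j e)^d`. -/
theorem existsUnique_eq_pow {U₀ : S.Opens} {e : Fin 1 → Γ(E, U₀)} (he : LFFrame.IsFrame E U₀ e) (h : U ≤ U₀)
    {d : ℕ} {x : 𝒮.presheaf.obj (op U)} (hx : x ∈ 𝒮.deg U hU d) :
    ∃! r : Γ(S, U), x = (𝒮.str.app (op U)).hom r * (show (𝒮.presheaf.obj (op U) : Type u) from j.app U (E.presheaf.map (homOfLE h).op (e 0))) ^ d := by
  let := (𝒮.str.app (op U)).hom.toAlgebra
  let b := E.presheaf.map (homOfLE h).op (e 0)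
  let t : 𝒮.presheaf.obj (op U) := j.app U b
  have hspan : ∀ m : Γ(E, U), ∃ r : Γ(S, U), m = r • b := fun m => by
    obtain ⟨a, rfl⟩ := (he U h).2 m
    exact ⟨a 0, by simp [LFFrame.comb, b]⟩
  have hpow : piece j U d ≤ Submodule.span Γ(S, U) {t ^ d} := by
    rw [piece]
    refine le_trans (pow_le_pow_left' (b := Submodule.span Γ(S, U) {t}) ?_ d) (le_of_eq (by rw [Submodule.span_pow, Set.singleton_pow]))
    rintro _ ⟨m, rfl⟩
    obtain ⟨r, rfl⟩ := hspan m
    exact Submodule.mem_span_singleton.2 ⟨r, (j.app_smul r b).symm⟩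
  obtain ⟨r, hr⟩ := Submodule.mem_span_singleton.1 (hpow ((mem_deg_iff hj hU).1 hx))
  refine ⟨r, hr.symm, fun r' hr' => ?_⟩
  let bas : Module.Basis (Fin 1) Γ(S, U) Γ(E, U) := Module.Basis.ofEquivFun
    (LinearEquiv.ofBijective
      ({ toFun := fun a => LFFrame.comb E e h a
         map_add' := fun a a' => by simp [LFFrame.comb, add_smul]
         map_smul' := fun c a => by simp [LFFrame.comb, mul_smul] } : (Fin 1 → Γ(S, U)) →ₗ[Γ(S, U)] Γ(E, U))
      (he U h)).symm
  have hbas : bas 0 = b := by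
    simp [bas, LFFrame.comb, b]
  let ev := SymmetricAlgebra.equivMvPolynomial bas
  have key : ∀ c : Γ(S, U), (ev (algebraMap _ _ c * (SymmetricAlgebra.ι _ _ b) ^ d)).coeff (Finsupp.single 0 d) = c := by
    intro c
    rw [map_mul, map_pow, AlgEquiv.commutes, ← hbas, SymmetricAlgebra.equivMvPolynomial_ι_apply,
      MvPolynomial.algebraMap_eq, MvPolynomial.X_pow_eq_monomial, MvPolynomial.C_mul_monomial,
      MvPolynomial.coeff_monomial, if_pos rfl, mul_one]
  have hl : ∀ c : Γ(S, U), affLift j U (algebraMap _ _ c * (SymmetricAlgebra.ι _ _ b) ^ d) =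
      (𝒮.str.app (op U)).hom c * t ^ d := fun c => by
    rw [map_mul, map_pow, affLift_algebraMap, affLift_ι]
  have := (affLift_bijective hj.1 hU).1 ((hl r').trans (hr'.symm.trans (hr.symm.trans (hl r).symm)))
  rw [← key r', this, key r]

end Groth.Agent.SymLib
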