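import Groth.Agent.SymLib.Sheaf

/-! Sections of any symmetric algebra over an affine open. -/

noncomputable section

universe u

open CategoryTheory CategoryTheory.Limits AlgebraicGeometry TopologicalSpace Opposite

namespace Groth.Agent.SymLib

open Scheme (AffineZariskiSite)

variable {S : Scheme.{u}} {E : S.Modules} {A : RelSpec.QCAlg S}

/-- `Sym(E(U)) → A(U)` induced by `j`. -/
def affLift (j : E ⟶ A.toModule) (U : S.Opens) :
    SymmetricAlgebra Γ(S, U) Γ(E, U) →+* A.presheaf.obj (op U) :=
  letI : Algebra Γ(S, U) (A.presheaf.obj (op U)) := (A.str.app (op U)).hom.toAlgebra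
  (SymmetricAlgebra.lift (R := Γ(S, U)) (A := (A.presheaf.obj (op U) : Type u))
    { toFun := fun m => j.app U m
      map_add' := fun a b => map_add _ a b
      map_smul' := fun r m => j.app_smul r m }).toRingHom

lemma affLift_algebraMap (j : E ⟶ A.toModule) (U : S.Opens) (r : Γ(S, U)) :
    affLift j U (algebraMap _ _ r) = (A.str.app (op U)).hom r := by
  let : Algebra Γ(S, U) (A.presheaf.obj (op U)) := (A.str.app (op U)).hom.toAlgebra
  exact AlgHom.commutes _ r

lemma affLift_ι (j : E ⟶ A.toModule) (U : S.Opens) (m : Γ(E, U)) :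
    affLift j U (SymmetricAlgebra.ι _ _ m) = j.app U m := by
  let : Algebra Γ(S, U) (A.presheaf.obj (op U)) := (A.str.app (op U)).hom.toAlgebra
  exact SymmetricAlgebra.lift_ι_apply _ m

variable [E.IsQuasicoherent]

/-- Over an affine open, a symmetric algebra is the symmetric algebra of the sections. -/
theorem affLift_bijective {j : E ⟶ A.toModule} (hA : RelSpec.IsSymAlg E A j) {U : S.Opens}
    (hU : IsAffineOpen U) : Function.Bijective (affLift j U) := by
  obtain ⟨ψ, hψ, -⟩ := hA (symAlg E) (jSym E)
  obtain ⟨χ, hχ, -⟩ := isSymAlg_symAlg E A j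
  have e1 : ψ ≫ χ = 𝟙 A := (hA A j).unique
    (hom_ext_affine fun V hV => by
      ext m
      change (χ.hom.app (op V)).hom ((ψ.hom.app (op V)).hom (j.app V m)) = j.app V m
      exact (congrArg (χ.hom.app (op V)).hom congr(($(hψ).app V) m)).trans congr(($(hχ).app V) m))
    (hom_ext_affine fun V hV => by ext m; rfl)
  have e2 : χ ≫ ψ = 𝟙 _ := (isSymAlg_symAlg E (symAlg E) (jSym E)).unique
    (hom_ext_affine fun V hV => by
      ext m
      change (ψ.hom.app (op V)).hom ((χ.hom.app (op V)).hom ((jSym E).app V m)) = (jSym E).app V m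
      exact (congrArg (ψ.hom.app (op V)).hom congr(($(hχ).app V) m)).trans congr(($(hψ).app V) m))
    (hom_ext_affine fun V hV => by ext m; rfl)
  have key : affLift j U = ((symAff E U hU).inv ≫ χ.hom.app (op U)).hom := by
    refine ringHom_ext (fun r => ?_) (fun m => ?_)
    · rw [affLift_algebraMap, CommRingCat.hom_comp, RingHom.comp_apply]
      exact (congr($(NatTrans.congr_app χ.comm (op U)).hom r)).symm.trans
        (congrArg (χ.hom.app (op U)).hom (symAff_inv_algebraMap E U hU r)).symm
    · rw [affLift_ι, CommRingCat.hom_comp, RingHom.comp_apply, ← jSym_app E U hU m]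
      exact congr(($(hχ).app U) m).symm
  have hiso : IsIso (χ.hom.app (op U)) :=
    ⟨ψ.hom.app (op U), congr(($e2).hom.app (op U)), congr(($e1).hom.app (op U))⟩
  rw [key]
  exact ConcreteCategory.bijective_of_isIso ((symAff E U hU).inv ≫ χ.hom.app (op U))

/-- Induction on sections of a symmetric algebra over an affine open. -/
theorem affInduction {j : E ⟶ A.toModule} (hA : RelSpec.IsSymAlg E A j) {U : S.Opens} (hU : IsAffineOpen U)
    {motive : A.presheaf.obj (op U) → Prop} (hstr : ∀ r, motive ((A.str.app (op U)).hom r))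
    (hj : ∀ m, motive (j.app U m)) (hmul : ∀ a b, motive a → motive b → motive (a * b))
    (hadd : ∀ a b, motive a → motive b → motive (a + b)) (a : A.presheaf.obj (op U)) : motive a := by
  obtain ⟨x, rfl⟩ := (affLift_bijective hA hU).2 a
  induction x using SymmetricAlgebra.induction with
  | algebraMap r => rw [affLift_algebraMap]; exact hstr r
  | ι m => rw [affLift_ι]; exact hj m
  | mul x y hx hy => rw [map_mul]; exact hmul _ _ hx hy
  | add x y hx hy => rw [map_add]; exact hadd _ _ hx hy

end Groth.Agent.SymLib
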