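import Groth.Agent.SymLib.Algebra
import Groth.Agent.QCAlgLib.OfSite
import Groth.Agent.QCoh.Basic

/-! The symmetric algebra of a quasi-coherent module: existence, and its sections over affine opens. -/

noncomputable section

universe u

open CategoryTheory CategoryTheory.Limits AlgebraicGeometry TopologicalSpace Opposite

namespace Groth.Agent.SymLib

open Scheme (AffineZariskiSite)

variable {S : Scheme.{u}} (E : S.Modules)

/-- Restriction of sections as an additive map. -/
def resHom {U V : S.Opens} (h : V ≤ U) : Γ(E, U) →+ Γ(E, V) := (E.presheaf.map (homOfLE h).op).hom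

lemma resHom_smul {U V : S.Opens} (h : V ≤ U) (r : Γ(S, U)) (m : Γ(E, U)) :
    resHom E h (r • m) = (S.presheaf.map (homOfLE h).op).hom r • resHom E h m :=
  Scheme.Modules.map_smul E (homOfLE h) r m

/-- Restriction between symmetric algebras. -/
def symRes {U V : S.Opens} (h : V ≤ U) :
    SymmetricAlgebra Γ(S, U) Γ(E, U) →+* SymmetricAlgebra Γ(S, V) Γ(E, V) :=
  symMap (S.presheaf.map (homOfLE h).op).hom (resHom E h) (resHom_smul E h)

lemma symRes_algebraMap {U V : S.Opens} (h : V ≤ U) (r : Γ(S, U)) :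
    symRes E h (algebraMap _ _ r) = algebraMap _ _ ((S.presheaf.map (homOfLE h).op).hom r) := symMap_algebraMap _ _ _ _

lemma symRes_ι {U V : S.Opens} (h : V ≤ U) (m : Γ(E, U)) :
    symRes E h (SymmetricAlgebra.ι _ _ m) = SymmetricAlgebra.ι _ _ (resHom E h m) := symMap_ι _ _ _ _

lemma symRes_self (U : S.Opens) (h : U ≤ U) : symRes E h = RingHom.id _ :=
  ringHom_ext (fun r => by simp [symRes_algebraMap]) (fun m => by simp [symRes_ι, resHom])

lemma symRes_comp {U V W : S.Opens} (h : V ≤ U) (h' : W ≤ V) :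
    symRes E (h'.trans h) = (symRes E h').comp (symRes E h) :=
  ringHom_ext
    (fun r => by
      simp only [RingHom.comp_apply, symRes_algebraMap]
      rw [← CommRingCat.comp_apply, ← Functor.map_comp]; rfl)
    (fun m => by
      simp only [RingHom.comp_apply, symRes_ι, resHom]
      rw [← ConcreteCategory.comp_apply, ← Functor.map_comp]; rfl)

/-- The symmetric algebras over affine opens. -/
def symSite : S.AffineZariskiSiteᵒᵖ ⥤ CommRingCat.{u} where
  obj U := CommRingCat.of (SymmetricAlgebra Γ(S, U.unop.1) Γ(E, U.unop.1))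
  map i := CommRingCat.ofHom (symRes E (AffineZariskiSite.toOpens_mono i.unop.le))
  map_id U := CommRingCat.hom_ext (symRes_self E _ _)
  map_comp i j := CommRingCat.hom_ext
    (symRes_comp E (AffineZariskiSite.toOpens_mono i.unop.le) (AffineZariskiSite.toOpens_mono j.unop.le))

/-- The structure map over affine opens. -/
def symStr : (AffineZariskiSite.toOpensFunctor S).op ⋙ S.presheaf ⟶ symSite E where
  app U := CommRingCat.ofHom (algebraMap Γ(S, U.unop.1) (SymmetricAlgebra Γ(S, U.unop.1) Γ(E, U.unop.1)))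
  naturality U V i := CommRingCat.hom_ext (RingHom.ext fun r =>
    (symRes_algebraMap E (AffineZariskiSite.toOpens_mono i.unop.le) r).symm)

variable [E.IsQuasicoherent]

lemma symStr_coequifibered : (symStr E).Coequifibered := by
  refine AffineZariskiSite.coequifibered_iff_forall_isLocalizationAway.2 fun U r => ?_
  have H := QCoh.isLocalizingAt E U.2 r
  exact isLocalization_symMap (S.presheaf.map (homOfLE (S.basicOpen_le r)).op).hom _
    (resHom_smul E (S.basicOpen_le r)) r (U.2.isLocalization_basicOpen r)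
    (fun m' => by obtain ⟨n, t, ht⟩ := H.surj m'; exact ⟨n, t, ht⟩) H.eq_zero

/-- The symmetric algebra. -/
def symAlg : RelSpec.QCAlg S := QCAlgLib.ofSite (symStr_coequifibered E)

/-- Its identification over an affine open. -/
def symAff (U : S.Opens) (hU : IsAffineOpen U) :
    (symAlg E).presheaf.obj (op U) ≅ CommRingCat.of (SymmetricAlgebra Γ(S, U) Γ(E, U)) :=
  @asIso _ _ _ _ (QCAlgLib.gammaAff (symStr_coequifibered E) U hU) (QCAlgLib.isIso_gammaAff _ _ _)

/-- The degree-one map over an affine open. -/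
def jAff (U : S.Opens) (hU : IsAffineOpen U) : Γ(E, U) →+ ((symAlg E).presheaf.obj (op U) : Type u) :=
  (symAff E U hU).inv.hom.toAddMonoidHom.comp (SymmetricAlgebra.ι Γ(S, U) Γ(E, U)).toAddMonoidHom

/-- The degree-one map on the affine site. -/
def jSite : (AffineZariskiSite.toOpensFunctor S).op ⋙ E.presheaf ⟶
    (AffineZariskiSite.toOpensFunctor S).op ⋙ (symAlg E).toModule.presheaf where
  app U := AddCommGrpCat.ofHom (jAff E U.unop.1 U.unop.2)
  naturality U V i := by
    ext m
    have e : (symSite E).map i ≫ (symAff E V.unop.1 V.unop.2).inv = (symAff E U.unop.1 U.unop.2).inv ≫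
        (symAlg E).presheaf.map (homOfLE (AffineZariskiSite.toOpens_mono i.unop.le)).op :=
      (QCAlgLib.ofSiteIso (symStr_coequifibered E)).inv.naturality i
    exact (congrArg (symAff E V.unop.1 V.unop.2).inv.hom
      (symRes_ι E (AffineZariskiSite.toOpens_mono i.unop.le) m)).symm.trans
        (congr($(e).hom (SymmetricAlgebra.ι _ _ m)))

/-- A component on the affine site, as a map of sections. -/
def appAff {M N : S.Modules}
    (η : (AffineZariskiSite.toOpensFunctor S).op ⋙ M.presheaf ⟶ (AffineZariskiSite.toOpensFunctor S).op ⋙ N.presheaf)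
    (U : S.Opens) (hU : IsAffineOpen U) : Γ(M, U) ⟶ Γ(N, U) := η.app (op (QCAlgLib.site U hU))

/-- Extend a map of modules from the affine opens. -/
def homOfSite {M N : S.Modules}
    (η : (AffineZariskiSite.toOpensFunctor S).op ⋙ M.presheaf ⟶ (AffineZariskiSite.toOpensFunctor S).op ⋙ N.presheaf)
    (hη : ∀ (U : S.Opens) (hU : IsAffineOpen U) (r : Γ(S, U)) (m : Γ(M, U)),
      appAff η U hU (r • m) = r • appAff η U hU m) : M ⟶ N := by
  let ψ := Functor.IsCoverDense.restrictHomEquivHom (G := AffineZariskiSite.toOpensFunctor S)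
    (K := Opens.grothendieckTopology S) (ℱ := M.presheaf)
    (ℱ' := (⟨N.presheaf, N.isSheaf⟩ : TopCat.Sheaf Ab.{u} S.carrier)) η
  have hψ : ∀ (U : S.AffineZariskiSite), ψ.app (op U.1) = η.app (op U) := fun U =>
    NatTrans.congr_app ((Functor.IsCoverDense.restrictHomEquivHom (G := AffineZariskiSite.toOpensFunctor S)
      (K := Opens.grothendieckTopology S) (ℱ := M.presheaf)
      (ℱ' := (⟨N.presheaf, N.isSheaf⟩ : TopCat.Sheaf Ab.{u} S.carrier))).symm_apply_apply η) (op U)
  exact ⟨PresheafOfModules.homMk ψ fun U r m => by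
    obtain ⟨U⟩ := U
    refine QCoh.eq_of_locally_eq N (U := fun i : {V : S.affineOpens // (V : S.Opens) ≤ U} => i.1.1) (V := U)
      (fun i => i.2) (fun x hx => ?_) _ _ fun ⟨⟨V, hV⟩, hVU⟩ => ?_
    · obtain ⟨_, ⟨W, hW, rfl⟩, hxW, hWU⟩ := S.isBasis_affineOpens.exists_subset_of_mem_open hx U.2
      exact Opens.mem_iSup.2 ⟨⟨⟨W, hW⟩, hWU⟩, hxW⟩
    · have nat : ∀ x : Γ(M, U), QCoh.res N hVU ((ψ.app (op U)).hom x) =
          appAff η V hV (QCoh.res M hVU x) := fun x => by
        rw [appAff, ← hψ]
        exact (congr($(ψ.naturality (homOfLE hVU).op).hom x)).symm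
      refine (nat _).trans ((congrArg _ (QCoh.res_smul M hVU r m)).trans ((hη _ _ _ _).trans ?_))
      refine Eq.trans ?_ (QCoh.res_smul N hVU r _).symm
      exact congrArg (fun z : Γ(N, V) => QCoh.rres hVU r • z) (nat m).symm⟩

lemma homOfSite_app {M N : S.Modules}
    (η : (AffineZariskiSite.toOpensFunctor S).op ⋙ M.presheaf ⟶ (AffineZariskiSite.toOpensFunctor S).op ⋙ N.presheaf)
    (hη) (U : S.Opens) (hU : IsAffineOpen U) : (homOfSite η hη).app U = η.app (op (QCAlgLib.site U hU)) :=
  NatTrans.congr_app ((Functor.IsCoverDense.restrictHomEquivHom (G := AffineZariskiSite.toOpensFunctor S)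
    (K := Opens.grothendieckTopology S) (ℱ := M.presheaf)
    (ℱ' := (⟨N.presheaf, N.isSheaf⟩ : TopCat.Sheaf Ab.{u} S.carrier))).symm_apply_apply η) (op (QCAlgLib.site U hU))

lemma hom_ext_affine {M N : S.Modules} {φ ψ : M ⟶ N}
    (h : ∀ (U : S.Opens), IsAffineOpen U → φ.app U = ψ.app U) : φ = ψ := by
  refine (Scheme.Modules.toPresheaf S).map_injective ?_
  apply (Functor.IsCoverDense.restrictHomEquivHom (G := AffineZariskiSite.toOpensFunctor S)
    (K := Opens.grothendieckTopology S) (ℱ := M.presheaf)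
    (ℱ' := (⟨N.presheaf, N.isSheaf⟩ : TopCat.Sheaf Ab.{u} S.carrier))).symm.injective
  ext U : 2
  exact h U.unop.1 U.unop.2

lemma symAff_str (U : S.Opens) (hU : IsAffineOpen U) (r : Γ(S, U)) :
    (symAff E U hU).hom.hom (((symAlg E).str.app (op U)).hom r) =
      algebraMap Γ(S, U) (SymmetricAlgebra Γ(S, U) Γ(E, U)) r :=
  congr($(QCAlgLib.str_gammaAff (symStr_coequifibered E) U hU).hom r)

lemma symAff_inv_algebraMap (U : S.Opens) (hU : IsAffineOpen U) (r : Γ(S, U)) :
    (symAff E U hU).inv.hom (algebraMap Γ(S, U) (SymmetricAlgebra Γ(S, U) Γ(E, U)) r) =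
      ((symAlg E).str.app (op U)).hom r := by
  rw [← symAff_str E U hU r]
  exact congr($((symAff E U hU).hom_inv_id).hom _)

/-- The canonical map `E ⟶ Sym(E)`. -/
def jSym : E ⟶ (symAlg E).toModule :=
  homOfSite (jSite E) fun U hU r m => by
    change (symAff E U hU).inv.hom (SymmetricAlgebra.ι _ _ (r • m)) =
      ((symAlg E).str.app (op U)).hom r * (symAff E U hU).inv.hom (SymmetricAlgebra.ι _ _ m)
    rw [map_smul, Algebra.smul_def, map_mul, symAff_inv_algebraMap]

lemma jSym_app (U : S.Opens) (hU : IsAffineOpen U) (m : Γ(E, U)) :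
    (jSym E).app U m = (symAff E U hU).inv.hom (SymmetricAlgebra.ι _ _ m) := by
  rw [jSym, homOfSite_app _ _ U hU]
  rfl

theorem isSymAlg_symAlg : RelSpec.IsSymAlg E (symAlg E) (jSym E) := by
  intro B φ
  let iB : ∀ U : S.Opens, Algebra Γ(S, U) (B.presheaf.obj (op U)) := fun U => (B.str.app (op U)).hom.toAlgebra
  let L : ∀ U : S.Opens, Γ(E, U) →ₗ[Γ(S, U)] (B.presheaf.obj (op U) : Type u) := fun U =>
    { toFun := fun m => φ.app U m
      map_add' := fun a b => map_add _ a b
      map_smul' := fun r m => φ.app_smul r m }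
  let Lh : ∀ U : S.Opens, SymmetricAlgebra Γ(S, U) Γ(E, U) →+* B.presheaf.obj (op U) := fun U =>
    (SymmetricAlgebra.lift (L U)).toRingHom
  let η : symSite E ⟶ (AffineZariskiSite.toOpensFunctor S).op ⋙ B.presheaf :=
    { app := fun U => CommRingCat.ofHom (Lh U.unop.1)
      naturality := fun U V i => by
        refine CommRingCat.hom_ext (ringHom_ext (fun r => ?_) (fun m => ?_))
        · change Lh V.unop.1 (symRes E (AffineZariskiSite.toOpens_mono i.unop.le) _) =
            (B.presheaf.map (homOfLE (AffineZariskiSite.toOpens_mono i.unop.le)).op).hom (Lh U.unop.1 _)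
          rw [symRes_algebraMap]
          simp only [Lh, AlgHom.toRingHom_eq_coe, RingHom.coe_coe, AlgHom.commutes]
          exact congr($(B.str.naturality (homOfLE (AffineZariskiSite.toOpens_mono i.unop.le)).op).hom r)
        · change Lh V.unop.1 (symRes E (AffineZariskiSite.toOpens_mono i.unop.le) _) =
            (B.presheaf.map (homOfLE (AffineZariskiSite.toOpens_mono i.unop.le)).op).hom (Lh U.unop.1 _)
          rw [symRes_ι]
          simp only [Lh, AlgHom.toRingHom_eq_coe, RingHom.coe_coe, SymmetricAlgebra.lift_ι_apply]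
          exact QCoh.app_res φ (AffineZariskiSite.toOpens_mono i.unop.le) m }
  let ψ : symAlg E ⟶ B := QCAlgLib.homOfSite ((QCAlgLib.ofSiteIso (symStr_coequifibered E)).hom ≫ η) fun U => by
    refine CommRingCat.hom_ext (RingHom.ext fun r => ?_)
    change Lh U.1 ((symAff E U.1 U.2).hom.hom (((symAlg E).str.app (op U.1)).hom r)) = _
    rw [symAff_str]
    exact AlgHom.commutes _ r
  have hψ : ∀ U hU x, (ψ.hom.app (op U)).hom x = Lh U ((symAff E U hU).hom.hom x) := fun U hU x =>
    congr($(QCAlgLib.homOfSite_app ((QCAlgLib.ofSiteIso (symStr_coequifibered E)).hom ≫ η) _ U hU).hom x)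
  refine ⟨ψ, hom_ext_affine fun U hU => ?_, fun ψ' hψ' => QCAlgLib.hom_ext_affine fun U hU => ?_⟩
  · ext m
    change (ψ.hom.app (op U)).hom ((jSym E).app U m) = φ.app U m
    rw [jSym_app E U hU, hψ U hU]
    erw [Iso.inv_hom_id_apply]
    exact SymmetricAlgebra.lift_ι_apply (L U) m
  · rw [← cancel_epi (symAff E U hU).inv]
    refine CommRingCat.hom_ext (ringHom_ext (fun r => ?_) (fun m => ?_))
    · simp only [CommRingCat.hom_comp, RingHom.comp_apply]
      exact (congrArg (ψ'.hom.app (op U)).hom (symAff_inv_algebraMap E U hU r)).trans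
        ((congr($(NatTrans.congr_app ψ'.comm (op U)).hom r).trans
          congr($(NatTrans.congr_app ψ.comm (op U)).hom r).symm).trans
          (congrArg (ψ.hom.app (op U)).hom (symAff_inv_algebraMap E U hU r)).symm)
    · simp only [CommRingCat.hom_comp, RingHom.comp_apply, ← jSym_app E U hU]
      refine (congr(($(hψ').app U) m)).trans ?_
      rw [jSym_app E U hU, hψ U hU]
      erw [Iso.inv_hom_id_apply]
      exact (SymmetricAlgebra.lift_ι_apply (L U) m).symm

end Groth.Agent.SymLib
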