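import Groth.Agent.SymLib.Grading
import Groth.Agent.RelProjLib.Basic
import Groth.Agent.RelProjLib.AwayBaseChange

/-! `Proj` of the symmetric algebra of an invertible module is the base. -/

noncomputable section

universe u

open CategoryTheory CategoryTheory.Limits AlgebraicGeometry TopologicalSpace Opposite
open scoped HomogeneousIdeal
open RelProj

namespace Groth.Agent.SymLib

variable {S : Scheme.{u}} {E : S.Modules} {𝒮 : QCGrAlg S} {j : E ⟶ 𝒮.toModule}
  [E.IsQuasicoherent] (hj : IsGrSymAlg E 𝒮 j) {U : S.Opens} (hU : IsAffineOpen U)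
  {U₀ : S.Opens} {e : Fin 1 → Γ(E, U₀)} (he : LFFrame.IsFrame E U₀ e) (h : U ≤ U₀)
include hj he h

/-- The degree-one generator over `U`. -/
def genOne (_ : IsGrSymAlg E 𝒮 j) (_ : LFFrame.IsFrame E U₀ e) : 𝒮.presheaf.obj (op U) :=
  j.app U (E.presheaf.map (homOfLE h).op (e 0))

lemma genOne_mem : genOne h hj he ∈ 𝒮.deg U hU 1 := hj.2 U hU _

lemma existsUnique_genOne {d : ℕ} {x : 𝒮.presheaf.obj (op U)} (hx : x ∈ 𝒮.deg U hU d) :
    ∃! r : Γ(S, U), x = (𝒮.str.app (op U)).hom r * genOne h hj he ^ d :=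
  existsUnique_eq_pow hj hU he h hx

lemma notMem_asHomogeneousIdeal (y : Proj (𝒮.deg U hU)) : genOne h hj he ∉ y.asHomogeneousIdeal := by
  intro hm
  refine y.not_irrelevant_le ((HomogeneousIdeal.irrelevant_le _).2 fun i hi a ha => ?_)
  obtain ⟨r, rfl, -⟩ := existsUnique_genOne hj hU he h ha
  exact Ideal.mul_mem_left _ _ (Ideal.pow_mem_of_mem _ hm i hi)

lemma zeroToAway_bijective : Function.Bijective
    (RelProjLib.zeroToAway (𝒮.str.app (op U)).hom (𝒮.str_mem U hU) (genOne h hj he)) := by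
  set t := genOne h hj he
  have ht : t ∈ 𝒮.deg U hU 1 := genOne_mem hj hU he h
  refine ⟨(injective_iff_map_eq_zero _).2 fun r hr => ?_, fun z => ?_⟩
  · have h1 := congrArg HomogeneousLocalization.val hr
    rw [RelProjLib.val_zeroToAway, HomogeneousLocalization.val_zero, IsLocalization.map_eq_zero_iff
      (Submonoid.powers t)] at h1
    obtain ⟨⟨_, k, rfl⟩, hk⟩ := h1
    have hm : (0 : 𝒮.presheaf.obj (op U)) ∈ 𝒮.deg U hU k := zero_mem _
    obtain ⟨r₀, -, huniq⟩ := existsUnique_genOne hj hU he h hm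
    exact (huniq r (hk.symm.trans (mul_comm _ _))).trans (huniq 0 (((congrArg (· * _) (map_zero _)).trans (zero_mul _)).symm)).symm
  · obtain ⟨n, a, ha, rfl⟩ := HomogeneousLocalization.Away.mk_surjective (𝒮.deg U hU) ht z
    rw [smul_eq_mul, mul_one] at ha
    obtain ⟨r, hr, -⟩ := existsUnique_genOne hj hU he h ha
    refine ⟨r, HomogeneousLocalization.val_injective _ ?_⟩
    rw [RelProjLib.val_zeroToAway, HomogeneousLocalization.Away.val_mk, Localization.mk_eq_mk',
      eq_comm, IsLocalization.mk'_eq_iff_eq_mul, hr, map_mul]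

lemma isIso_toSpec : IsIso (Proj.toSpecZero (𝒮.deg U hU) ≫ Spec.map (𝒮.strZero U hU)) := by
  have ht : genOne h hj he ∈ 𝒮.deg U hU 1 := genOne_mem hj hU he h
  let a := Proj.awayι (𝒮.deg U hU) (genOne h hj he) ht one_pos
  have : IsIso a := by
    have hs : Surjective a := ⟨fun y => (Proj.opensRange_awayι (𝒮.deg U hU) (genOne h hj he) ht one_pos).ge
      (notMem_asHomogeneousIdeal hj hU he h y)⟩
    exact (isIso_iff_isOpenImmersion_and_epi_base a).2 ⟨inferInstance, (TopCat.epi_iff_surjective _).2 hs.surj⟩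
  have : IsIso (a ≫ Proj.toSpecZero (𝒮.deg U hU) ≫ Spec.map (𝒮.strZero U hU)) := by
    rw [Proj.awayι_toSpecZero_assoc, ← Spec.map_comp]
    have : IsIso (CommRingCat.ofHom (RelProjLib.zeroToAway (𝒮.str.app (op U)).hom (𝒮.str_mem U hU)
        (genOne h hj he))) := (ConcreteCategory.isIso_iff_bijective _).2 (zeroToAway_bijective hj hU he h)
    exact inferInstanceAs (IsIso (Spec.map (CommRingCat.ofHom (RelProjLib.zeroToAway (𝒮.str.app (op U)).hom
      (𝒮.str_mem U hU) (genOne h hj he)))))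
  exact IsIso.of_isIso_comp_left a _

omit he h in
/-- `Proj(Sym L) → S` is an isomorphism for invertible `L`. -/
theorem isIso_proj (hL : PicF.IsInvertible E) {P : Scheme.{u}} {p : P ⟶ S}
    {chart : ∀ (U : S.Opens) (hU : IsAffineOpen U), (((p ⁻¹ᵁ U : P.Opens) : Scheme.{u}) ≅ Proj (𝒮.deg U hU))}
    (hP : IsRelProj 𝒮 p chart) : IsIso p := by
  change MorphismProperty.isomorphisms Scheme p
  have hex : ∀ x : S, ∃ (V U₀ : S.Opens) (e : Fin 1 → Γ(E, U₀)),
      IsAffineOpen V ∧ x ∈ V ∧ V ≤ U₀ ∧ LFFrame.IsFrame E U₀ e := fun x => by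
    obtain ⟨U₀, hx, ⟨φ⟩⟩ := hL x
    obtain ⟨e, he⟩ := LFFrame.exists_isFrame_of_split (M := E) (fun _ : Fin 1 => φ.inv) (fun _ => φ.hom)
      (fun i j => by simp [Subsingleton.elim i j]) (by simp)
    obtain ⟨_, ⟨V, hV, rfl⟩, hxV, hVU⟩ := S.isBasis_affineOpens.exists_subset_of_mem_open hx U₀.2
    exact ⟨V, U₀, e, hV, hxV, hVU, he⟩
  choose V W e hV hxV hVW he using hex
  have hsup : ⨆ x, V x = ⊤ := top_le_iff.1 fun x _ => Opens.mem_iSup.2 ⟨x, hxV x⟩
  rw [IsZariskiLocalAtTarget.iff_of_iSup_eq_top (P := MorphismProperty.isomorphisms Scheme) _ hsup]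
  intro x
  have eq : (p ∣_ V x) =
      (chart (V x) (hV x)).hom ≫ (Proj.toSpecZero (𝒮.deg (V x) (hV x)) ≫ Spec.map (𝒮.strZero (V x) (hV x))) ≫
        (hV x).isoSpec.inv := by
    rw [← cancel_mono (V x).ι, morphismRestrict_ι, ← hP.chart_over (V x) (hV x)]
    simp only [Category.assoc, IsAffineOpen.isoSpec_inv_ι]
  rw [eq, MorphismProperty.cancel_left_of_respectsIso (MorphismProperty.isomorphisms Scheme),
    MorphismProperty.cancel_right_of_respectsIso (MorphismProperty.isomorphisms Scheme)]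
  exact isIso_toSpec hj (hV x) (he x) (hVW x)

end Groth.Agent.SymLib
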