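import Groth.Agent.SymLib.InvProj
import Groth.Agent.RelProjLib.QMap
import Groth.Agent.RelProjLib.Existence

/-! The morphism `r_{L,ψ}` into a relative Proj attached to an invertible module. -/

noncomputable section

universe u

open CategoryTheory CategoryTheory.Limits AlgebraicGeometry TopologicalSpace Opposite
open scoped HomogeneousIdeal
open RelProj

namespace Groth.Agent.SymLib

/-- A homogeneous element of positive degree lying in every relevant prime is nilpotent. -/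
lemma isNilpotent_of_forall_mem {A σ : Type u} [CommRing A] [SetLike σ A] [AddSubgroupClass σ A] {𝒜 : ℕ → σ}
    [GradedRing 𝒜] {d : ℕ} (hd : 0 < d) {a : A} (ha : a ∈ 𝒜 d)
    (h : ∀ y : Proj 𝒜, a ∈ y.asHomogeneousIdeal) : IsNilpotent a := by
  rw [nilpotent_iff_mem_prime]
  intro P hP
  by_contra hne
  let y : Proj 𝒜 := (⟨P.homogeneousCore 𝒜, hP.homogeneousCore, fun hle => hne
    (Ideal.toIdeal_homogeneousCore_le 𝒜 P (hle (HomogeneousIdeal.mem_irrelevant_of_mem _ hd ha)))⟩ :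
      ProjectiveSpectrum 𝒜)
  exact hne (Ideal.toIdeal_homogeneousCore_le 𝒜 P (h y))

variable {X : Scheme.{u}} {L : X.Modules} {𝒮L : QCGrAlg X} {j : L ⟶ 𝒮L.toModule}
  [L.IsQuasicoherent] (hj : IsGrSymAlg L 𝒮L j)
include hj

/-- If `a` generates `A_d`, it lies in no point of `Proj`. -/
lemma notMem_of_deg_le {V : X.Opens} (hV : IsAffineOpen V) {d : ℕ} (hd : 0 < d)
    {a : 𝒮L.presheaf.obj (op V)}
    (hle : (𝒮L.deg V hV d : Set (𝒮L.presheaf.obj (op V))) ⊆ (Ideal.span {a} : Set _))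
    (y : Proj (𝒮L.deg V hV)) : a ∉ y.asHomogeneousIdeal := by
  intro hay
  let := (𝒮L.str.app (op V)).hom.toAlgebra
  have h1 : ∀ b ∈ 𝒮L.deg V hV d, b ∈ y.asHomogeneousIdeal.toIdeal := fun b hb =>
    (Ideal.span_singleton_le_iff_mem _).2 hay (hle hb)
  have h2 : ∀ (k : ℕ) (b : 𝒮L.presheaf.obj (op V)), b ∈ 𝒮L.deg V hV k → d ≤ k → b ∈ y.asHomogeneousIdeal.toIdeal := by
    intro k b hb hdk
    obtain ⟨c, rfl⟩ := Nat.exists_eq_add_of_le hdk
    have hb' := (mem_deg_iff hj hV).1 hb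
    rw [piece, pow_add] at hb'
    refine Submodule.mul_induction_on hb' (fun p hp q _ => ?_) fun p q hp hq => add_mem hp hq
    exact Ideal.mul_mem_right _ _ (h1 p ((mem_deg_iff hj hV).2 hp))
  refine y.not_irrelevant_le ((HomogeneousIdeal.irrelevant_le _).2 fun i hi b hb => ?_)
  refine y.isPrime.mem_of_pow_mem d (h2 (d • i) _ (SetLike.pow_mem_graded (A := 𝒮L.deg V hV) d hb) ?_)
  exact Nat.le_mul_of_pos_right d hi

variable {PL : Scheme.{u}} {pL : PL ⟶ X}
  {chartL : ∀ (U : X.Opens) (hU : IsAffineOpen U), (((pL ⁻¹ᵁ U : PL.Opens) : Scheme.{u}) ≅ Proj (𝒮L.deg U hU))}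

/-- Where `a ∈ A_d` does not vanish it generates `A_d` on a neighbourhood. -/
lemma exists_nhd_of_notMem (hPL : IsRelProj 𝒮L pL chartL) {V : X.Opens} (hV : IsAffineOpen V)
    {U₀ : X.Opens} {e : Fin 1 → Γ(L, U₀)} (he : LFFrame.IsFrame L U₀ e) (h : V ≤ U₀) {d : ℕ}
    {a : 𝒮L.presheaf.obj (op V)} (ha : a ∈ 𝒮L.deg V hV d) {y : Proj (𝒮L.deg V hV)}
    (hy : a ∉ y.asHomogeneousIdeal) :
    ∃ (W : X.Opens) (hW : IsAffineOpen W) (i : W ≤ V), pL (emb pL chartL V hV y) ∈ W ∧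
      (𝒮L.deg W hW d : Set (𝒮L.presheaf.obj (op W))) ⊆
        (Ideal.span {(𝒮L.presheaf.map (homOfLE i).op).hom a} : Set _) := by
  obtain ⟨r, hr, -⟩ := existsUnique_genOne hj hV he h ha
  let c := (𝒮L.str.app (op V)).hom r
  have hc : c ∉ y.asHomogeneousIdeal := fun hm => hy (by rw [hr]; exact Ideal.mul_mem_right _ _ hm)
  have hWV := RelProjLib.isAwayZero_res 𝒮L V hV r
  have hOI := RelProjLib.isOpenImmersion_map_of_isAwayZero hWV (𝒮L.irrelevant_le_map V hV r)
  refine ⟨X.basicOpen r, hV.basicOpen r, X.basicOpen_le r, ?_, fun b hb => ?_⟩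
  · have hm : y ∈ (Proj.map (𝒮L.res hV (hV.basicOpen r) (X.basicOpen_le r))
        (𝒮L.irrelevant_le_map V hV r)).opensRange := by
      rw [RelProjLib.opensRange_map_of_isAwayZero hWV]
      exact hc
    obtain ⟨w, rfl⟩ := hm
    rw [← Scheme.Hom.comp_apply _ (emb pL chartL V hV), map_res_emb hPL]
    have h' : emb pL chartL (X.basicOpen r) (hV.basicOpen r) w ∈
        (emb pL chartL (X.basicOpen r) (hV.basicOpen r)).opensRange := ⟨_, rfl⟩
    rwa [RelProjLib.emb_opensRange] at h'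
  · obtain ⟨s, rfl, -⟩ := existsUnique_genOne hj (hV.basicOpen r) he ((X.basicOpen_le r).trans h) hb
    obtain ⟨v, hv⟩ := hWV.isUnit
    refine Ideal.mem_span_singleton'.2 ⟨(𝒮L.str.app (op (X.basicOpen r))).hom s * ↑v⁻¹, ?_⟩
    have ht : (𝒮L.presheaf.map (homOfLE (X.basicOpen_le r)).op).hom (genOne h hj he) =
        genOne ((X.basicOpen_le r).trans h) hj he := by
      refine (QCoh.app_res j (X.basicOpen_le r) _).symm.trans ?_
      exact congrArg (j.app (X.basicOpen r)) (LFFrame.res_res L h (X.basicOpen_le r) (e 0))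
    rw [hr, map_mul, map_pow, ht]
    have hvc : (↑v⁻¹ : 𝒮L.presheaf.obj (op (X.basicOpen r))) *
        (𝒮L.presheaf.map (homOfLE (X.basicOpen_le r)).op).hom c = 1 := by
      change _ * (𝒮L.res hV (hV.basicOpen r) (X.basicOpen_le r)) _ = 1
      rw [show c = ((𝒮L.strZero V hV).hom r : 𝒮L.presheaf.obj (op V)) from rfl, ← hv, Units.inv_mul]
    rw [mul_assoc, ← mul_assoc (↑v⁻¹ : 𝒮L.presheaf.obj (op (X.basicOpen r))), hvc, one_mul]

end Groth.Agent.SymLib
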