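import Groth.Prelude.Def_SymProd
import Groth.Agent.SGA1Quot.Exists
import Mathlib.AlgebraicGeometry.Limits

/-!
# Affine opens of fibre powers
-/

universe u

open CategoryTheory CategoryTheory.Limits AlgebraicGeometry

noncomputable section

namespace Groth.Agent.SymLib

variable {X S : Scheme.{u}} (f : X ⟶ S) (d : ℕ)

/-- The structure map of the fibre power. -/
abbrev bs : SymProd.fibPow f d ⟶ S := WidePullback.base (fun _ : Fin d => f)

/-- The projections of the fibre power. -/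
abbrev pr (i : Fin d) : SymProd.fibPow f d ⟶ X := WidePullback.π (fun _ : Fin d => f) i

/-- The box of `U` in the fibre power. -/
def box (U : X.Opens) (O : S.Opens) : (SymProd.fibPow f d).Opens :=
  ⟨(bs f d).base ⁻¹' (O : Set S) ∩
    ⋂ i : Fin d, (pr f d i).base ⁻¹' (U : Set X),
    (O.isOpen.preimage (bs f d).continuous).inter
      (isOpen_iInter_of_finite fun i => U.isOpen.preimage (pr f d i).continuous)⟩

theorem mem_box {U : X.Opens} {O : S.Opens} {z : ↥(SymProd.fibPow f d)} :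
    z ∈ box f d U O ↔ (WidePullback.base (fun _ : Fin d => f)) z ∈ O ∧
      ∀ i, (WidePullback.π (fun _ : Fin d => f) i) z ∈ U := by
  rw [← SetLike.mem_coe]
  show z ∈ _ ∩ _ ↔ _
  rw [Set.mem_inter_iff, Set.mem_iInter]
  rfl

theorem isAffineOpen_box {U : X.Opens} (hU : IsAffineOpen U) {O : S.Opens} (hO : IsAffineOpen O)
    (hle : U ≤ f ⁻¹ᵁ O) : IsAffineOpen (box f d U O) := by
  haveI : IsAffine U.toScheme := hU
  haveI : IsAffine O.toScheme := hO
  let g := f.resLE O U hle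
  have hg : g ≫ O.ι = U.ι ≫ f := Scheme.Hom.resLE_comp_ι _ _
  let P : Scheme.{u} := widePullback O.toScheme (fun _ : Fin d => U.toScheme) (fun _ => g)
  haveI : IsAffine P := by
    haveI : ∀ j, IsAffine ((WidePullbackShape.wideCospan O.toScheme (fun _ : Fin d => U.toScheme) (fun _ => g)).obj j) := by
      rintro (_ | i)
      · exact hO
      · exact hU
    exact Scheme.isAffine_of_isLimit _ (limit.isLimit _)
  set W := box f d U O
  let π : Fin d → (SymProd.fibPow f d ⟶ X) := fun i => WidePullback.π (fun _ : Fin d => f) i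
  let b : SymProd.fibPow f d ⟶ S := WidePullback.base (fun _ : Fin d => f)
  let πP : Fin d → (P ⟶ U.toScheme) := fun i => WidePullback.π (fun _ : Fin d => g) i
  let bP : P ⟶ O.toScheme := WidePullback.base (fun _ : Fin d => g)
  have hπP : ∀ i, πP i ≫ g = bP := fun i => WidePullback.π_arrow _ i
  have hπ : ∀ i, π i ≫ f = b := fun i => WidePullback.π_arrow _ i
  let φ : P ⟶ SymProd.fibPow f d := WidePullback.lift (bP ≫ O.ι) (fun i => πP i ≫ U.ι) fun i => by
    rw [Category.assoc, ← hg, ← Category.assoc, hπP]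
  have hφb : φ ≫ b = bP ≫ O.ι := WidePullback.lift_base _ _ _ _
  have hφπ : ∀ i, φ ≫ π i = πP i ≫ U.ι := fun i => WidePullback.lift_π _ _ _ _ i
  have hrange : Set.range φ ⊆ Set.range W.ι := by
    rintro _ ⟨p, rfl⟩
    rw [Scheme.Opens.range_ι]
    refine (mem_box f d).mpr ⟨?_, fun i => ?_⟩
    · show b (φ p) ∈ O
      rw [← Scheme.Hom.comp_apply, hφb, Scheme.Hom.comp_apply]
      exact (bP p).2
    · show π i (φ p) ∈ U
      rw [← Scheme.Hom.comp_apply, hφπ, Scheme.Hom.comp_apply]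
      exact (πP i p).2
  have hb : Set.range (W.ι ≫ b) ⊆ Set.range O.ι := by
    rintro _ ⟨z, rfl⟩
    rw [Scheme.Opens.range_ι]
    exact ((mem_box f d).mp z.2).1
  have hp : ∀ i, Set.range (W.ι ≫ π i) ⊆ Set.range U.ι := fun i => by
    rintro _ ⟨z, rfl⟩
    rw [Scheme.Opens.range_ι]
    exact ((mem_box f d).mp z.2).2 i
  let ψ : W.toScheme ⟶ P := WidePullback.lift (IsOpenImmersion.lift O.ι _ hb)
    (fun i => IsOpenImmersion.lift U.ι _ (hp i)) fun i => by
      rw [← cancel_mono O.ι, Category.assoc, hg, IsOpenImmersion.lift_fac, ← Category.assoc,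
        IsOpenImmersion.lift_fac, Category.assoc, hπ]
  have hψb : ψ ≫ bP = IsOpenImmersion.lift O.ι _ hb := WidePullback.lift_base _ _ _ _
  have hψπ : ∀ i, ψ ≫ πP i = IsOpenImmersion.lift U.ι _ (hp i) := fun i => WidePullback.lift_π _ _ _ _ i
  let φ' := IsOpenImmersion.lift W.ι φ hrange
  have hφ' : φ' ≫ W.ι = φ := IsOpenImmersion.lift_fac _ _ _
  have h1 : φ' ≫ ψ = 𝟙 P := by
    refine WidePullback.hom_ext _ _ _ (fun i => ?_) ?_
    · show (φ' ≫ ψ) ≫ πP i = 𝟙 P ≫ πP i
      rw [← cancel_mono U.ι, Category.assoc φ', hψπ, Category.assoc, IsOpenImmersion.lift_fac, ← Category.assoc, hφ', hφπ,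
        Category.id_comp]
    · show (φ' ≫ ψ) ≫ bP = 𝟙 P ≫ bP
      rw [← cancel_mono O.ι, Category.assoc φ', hψb, Category.assoc, IsOpenImmersion.lift_fac, ← Category.assoc, hφ', hφb,
        Category.id_comp]
  have h2 : ψ ≫ φ' = 𝟙 _ := by
    rw [← cancel_mono W.ι, Category.assoc, hφ', Category.id_comp]
    refine WidePullback.hom_ext _ _ _ (fun i => ?_) ?_
    · show (ψ ≫ φ) ≫ π i = W.ι ≫ π i
      rw [Category.assoc, hφπ, ← Category.assoc, hψπ, IsOpenImmersion.lift_fac]
    · show (ψ ≫ φ) ≫ b = W.ι ≫ b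
      rw [Category.assoc, hφb, ← Category.assoc, hψb, IsOpenImmersion.lift_fac]
  haveI : IsIso ψ := ⟨φ', h2, h1⟩
  exact IsAffine.of_isIso ψ

theorem box_stable {U : X.Opens} {O : S.Opens} (σ : Equiv.Perm (Fin d)) :
    (SymProd.permHom f d σ) ⁻¹ᵁ box f d U O = box f d U O := by
  ext z
  show SymProd.permHom f d σ z ∈ box f d U O ↔ z ∈ box f d U O
  rw [mem_box, mem_box, ← Scheme.Hom.comp_apply, SymProd.permHom_base]
  refine and_congr_right' ?_
  simp only [← Scheme.Hom.comp_apply, SymProd.permHom_π]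
  exact ⟨fun h i => by simpa using h (σ i), fun h i => h (σ.symm i)⟩

theorem exists_box (hAF : SymProd.IsAF f) (x : ↥(SymProd.fibPow f d)) {O : S.Opens}
    (hx : (WidePullback.base (fun _ : Fin d => f)) x ∈ O) :
    ∃ U : X.Opens, IsAffineOpen U ∧ U ≤ f ⁻¹ᵁ O ∧ x ∈ box f d U O := by
  classical
  let T : Finset X := Finset.univ.image fun i => (WidePullback.π (fun _ : Fin d => f) i) x
  have hT : ∀ z ∈ T, f.base z = (WidePullback.base (fun _ : Fin d => f)) x := fun z hz => by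
    obtain ⟨i, -, rfl⟩ := Finset.mem_image.mp hz
    rw [← Scheme.Hom.comp_apply, WidePullback.π_arrow]
  obtain ⟨U, hU, hUT⟩ := hAF _ T hT
  obtain ⟨g, hg, hgt⟩ := SGA1Quot.exists_basicOpen_finite hU (f ⁻¹ᵁ O)
    (fun i : Fin d => (WidePullback.π (fun _ : Fin d => f) i) x) fun i =>
      ⟨hUT _ (Finset.mem_image_of_mem _ (Finset.mem_univ i)), by
        show f (WidePullback.π (fun _ : Fin d => f) i x) ∈ O
        rw [← Scheme.Hom.comp_apply, WidePullback.π_arrow]; exact hx⟩
  exact ⟨X.basicOpen g, hU.basicOpen g, hg, (mem_box f d).mpr ⟨hx, hgt⟩⟩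

theorem coe_box_eq (hd : 0 < d) {U : X.Opens} {O : S.Opens} (hle : U ≤ f ⁻¹ᵁ O) :
    (box f d U O : Set ↥(SymProd.fibPow f d)) =
      ⋂ i : Fin d, (pr f d i).base ⁻¹' (U : Set X) := by
  refine Set.inter_eq_right.mpr fun z hz => ?_
  have h : f (WidePullback.π (fun _ : Fin d => f) ⟨0, hd⟩ z) ∈ O := hle (Set.mem_iInter.mp hz ⟨0, hd⟩)
  rwa [← Scheme.Hom.comp_apply, WidePullback.π_arrow] at h

end Groth.Agent.SymLib
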