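import Mathlib

/-! Functoriality and localisation of symmetric algebras. -/

noncomputable section

universe u

open SymmetricAlgebra (ι lift)

namespace Groth.Agent.SymLib

variable {R R' R'' M M' M'' : Type u} [CommRing R] [CommRing R'] [CommRing R''] [AddCommGroup M] [Module R M]
  [AddCommGroup M'] [Module R' M'] [AddCommGroup M''] [Module R'' M'']

lemma ringHom_ext {A : Type u} [CommRing A] {F G : SymmetricAlgebra R M →+* A}
    (h₀ : ∀ r, F (algebraMap R _ r) = G (algebraMap R _ r)) (h₁ : ∀ m, F (ι R M m) = G (ι R M m)) : F = G := by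
  refine RingHom.ext fun x => ?_
  induction x using SymmetricAlgebra.induction with
  | algebraMap r => exact h₀ r
  | ι m => exact h₁ m
  | mul a b ha hb => rw [map_mul, map_mul, ha, hb]
  | add a b ha hb => rw [map_add, map_add, ha, hb]

/-- Functoriality along a ring map and a semilinear map. -/
def symMap (φ : R →+* R') (g : M →+ M') (hg : ∀ (r : R) (m : M), g (r • m) = φ r • g m) :
    SymmetricAlgebra R M →+* SymmetricAlgebra R' M' :=
  letI : Algebra R (SymmetricAlgebra R' M') := ((algebraMap R' (SymmetricAlgebra R' M')).comp φ).toAlgebra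
  (lift (R := R) (M := M) (A := SymmetricAlgebra R' M')
    { toFun := fun m => ι R' M' (g m)
      map_add' := fun a b => by simp
      map_smul' := fun r m => by
        rw [hg, map_smul, RingHom.id_apply, Algebra.smul_def, Algebra.smul_def]
        rfl }).toRingHom

variable (φ : R →+* R') (g : M →+ M') (hg : ∀ (r : R) (m : M), g (r • m) = φ r • g m)

@[simp] lemma symMap_algebraMap (r : R) :
    symMap φ g hg (algebraMap R _ r) = algebraMap R' _ (φ r) := by
  let : Algebra R (SymmetricAlgebra R' M') := ((algebraMap R' (SymmetricAlgebra R' M')).comp φ).toAlgebra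
  exact AlgHom.commutes _ r

@[simp] lemma symMap_ι (m : M) : symMap φ g hg (ι R M m) = ι R' M' (g m) := by
  let : Algebra R (SymmetricAlgebra R' M') := ((algebraMap R' (SymmetricAlgebra R' M')).comp φ).toAlgebra
  exact SymmetricAlgebra.lift_ι_apply _ m

lemma symMap_id (g₀ : M →+ M) (hg₀ : ∀ (r : R) (m : M), g₀ (r • m) = RingHom.id R r • g₀ m)
    (h : ∀ m, g₀ m = m) : symMap (RingHom.id R) g₀ hg₀ = RingHom.id _ :=
  ringHom_ext (fun r => by simp) (fun m => by simp [h])

lemma symMap_comp (φ' : R' →+* R'') (g' : M' →+ M'') (hg' : ∀ (r : R') (m : M'), g' (r • m) = φ' r • g' m)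
    (φ'' : R →+* R'') (g'' : M →+ M'') (hg'' : ∀ (r : R) (m : M), g'' (r • m) = φ'' r • g'' m)
    (hφ : ∀ r, φ'' r = φ' (φ r)) (h : ∀ m, g'' m = g' (g m)) :
    symMap φ'' g'' hg'' = (symMap φ' g' hg').comp (symMap φ g hg) :=
  ringHom_ext (fun r => by simp [hφ]) (fun m => by simp [h])

/-- The symmetric algebra of a localised module is the localised symmetric algebra. -/
theorem isLocalization_symMap (r : R) (hR : letI := φ.toAlgebra; IsLocalization.Away r R')
    (surj : ∀ m' : M', ∃ (n : ℕ) (m : M), g m = φ r ^ n • m')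
    (eq_zero : ∀ m : M, g m = 0 → ∃ n : ℕ, r ^ n • m = 0) :
    letI := (symMap φ g hg).toAlgebra
    IsLocalization.Away (algebraMap R (SymmetricAlgebra R M) r) (SymmetricAlgebra R' M') := by
  let c := algebraMap R (SymmetricAlgebra R M) r
  let iR : Algebra R R' := φ.toAlgebra
  have : IsLocalization.Away r R' := hR
  let iM : Module R M' := Module.compHom M' φ
  have hsm : ∀ (a : R) (x : M'), a • x = φ a • x := fun _ _ => rfl
  have : IsScalarTower R R' M' := ⟨fun a b x => by rw [Algebra.smul_def, mul_smul, hsm]; rfl⟩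
  let gl : M →ₗ[R] M' := { toFun := g, map_add' := map_add g, map_smul' := hg }
  have hu : IsUnit (φ r) := IsLocalization.Away.algebraMap_isUnit r
  have : IsLocalizedModule (Submonoid.powers r) gl := by
    refine ⟨?_, fun y => ?_, fun {x₁ x₂} h => ?_⟩
    · rintro ⟨_, n, rfl⟩
      rw [Module.End.isUnit_iff]
      obtain ⟨v, hv⟩ := hu.pow n
      refine Function.bijective_iff_has_inverse.2 ⟨fun x => (↑v⁻¹ : R') • x, fun x => ?_, fun x => ?_⟩
      · change (↑v⁻¹ : R') • φ (r ^ n) • x = x
        rw [map_pow, ← hv, ← mul_smul, Units.inv_mul, one_smul]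
      · change φ (r ^ n) • (↑v⁻¹ : R') • x = x
        rw [map_pow, ← hv, ← mul_smul, Units.mul_inv, one_smul]
    · obtain ⟨n, m, h⟩ := surj y
      exact ⟨(m, ⟨r ^ n, n, rfl⟩), by rw [Submonoid.smul_def, hsm, map_pow]; exact h.symm⟩
    · obtain ⟨n, hn⟩ := eq_zero (x₁ - x₂) (by rw [map_sub]; exact sub_eq_zero.2 h)
      exact ⟨⟨r ^ n, n, rfl⟩, sub_eq_zero.1 (by rw [Submonoid.smul_def, Submonoid.smul_def, ← smul_sub]; exact hn)⟩
  let T := Localization.Away c
  have hrT : IsUnit (algebraMap R T r) := by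
    rw [IsScalarTower.algebraMap_apply R (SymmetricAlgebra R M) T]
    exact IsLocalization.Away.algebraMap_isUnit c
  let iT : Algebra R' T := (IsLocalization.Away.lift r hrT).toAlgebra
  have : IsScalarTower R R' T := .of_algebraMap_eq fun a => (IsLocalization.Away.lift_eq r hrT a).symm
  let l₀ : M →ₗ[R] T := (Algebra.linearMap (SymmetricAlgebra R M) T).restrictScalars R ∘ₗ ι R M
  have hend : ∀ x : Submonoid.powers r, IsUnit (algebraMap R (Module.End R T) x) := by
    rintro ⟨_, n, rfl⟩
    rw [Module.End.isUnit_iff]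
    obtain ⟨v, hv⟩ := hrT.pow n
    refine Function.bijective_iff_has_inverse.2 ⟨fun x => (↑v⁻¹ : T) * x, fun x => ?_, fun x => ?_⟩
    · change (↑v⁻¹ : T) * ((r ^ n) • x) = x
      rw [Algebra.smul_def, map_pow, ← hv, ← mul_assoc, Units.inv_mul, one_mul]
    · change (r ^ n) • ((↑v⁻¹ : T) * x) = x
      rw [Algebra.smul_def, map_pow, ← hv, ← mul_assoc, Units.mul_inv, one_mul]
  let l : M' →ₗ[R'] T :=
    (IsLocalizedModule.lift (Submonoid.powers r) gl l₀ hend).extendScalarsOfIsLocalization (Submonoid.powers r) R'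
  let Ψ : SymmetricAlgebra R' M' →ₐ[R'] T := lift l
  have hΨ : Ψ.toRingHom.comp (symMap φ g hg) = algebraMap (SymmetricAlgebra R M) T := by
    refine ringHom_ext (fun a => ?_) (fun m => ?_)
    · simp only [RingHom.comp_apply, symMap_algebraMap, AlgHom.toRingHom_eq_coe, RingHom.coe_coe, AlgHom.commutes]
      rw [← IsScalarTower.algebraMap_apply R (SymmetricAlgebra R M) T]
      exact IsLocalization.Away.lift_eq r hrT a
    · simp only [RingHom.comp_apply, symMap_ι, AlgHom.toRingHom_eq_coe, RingHom.coe_coe, Ψ,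
        SymmetricAlgebra.lift_ι_apply]
      exact IsLocalizedModule.lift_apply (Submonoid.powers r) gl l₀ hend m
  let iS : Algebra (SymmetricAlgebra R M) (SymmetricAlgebra R' M') := (symMap φ g hg).toAlgebra
  change IsLocalization (Submonoid.powers c) (SymmetricAlgebra R' M')
  have hc : symMap φ g hg c = algebraMap R' _ (φ r) := symMap_algebraMap φ g hg r
  refine { map_units := ?_, surj := fun z => ?_, exists_of_eq := fun {x y} h => ?_ }
  · rintro ⟨_, n, rfl⟩
    change IsUnit (symMap φ g hg (c ^ n))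
    rw [map_pow, hc]
    exact (hu.map _).pow n
  · suffices ∃ (n : ℕ) (x : SymmetricAlgebra R M), z * symMap φ g hg c ^ n = symMap φ g hg x by
      obtain ⟨n, x, hx⟩ := this
      exact ⟨(x, ⟨c ^ n, n, rfl⟩), by change z * symMap φ g hg (c ^ n) = _; rw [map_pow, hx]; rfl⟩
    induction z using SymmetricAlgebra.induction with
    | algebraMap a =>
      obtain ⟨⟨b, ⟨_, n, rfl⟩⟩, hb⟩ := IsLocalization.surj (Submonoid.powers r) a
      refine ⟨n, algebraMap R _ b, ?_⟩
      rw [hc, ← map_pow, ← map_mul, symMap_algebraMap]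
      exact congrArg _ ((congrArg (a * ·) (map_pow φ r n).symm).trans hb)
    | ι m' =>
      obtain ⟨n, m, h⟩ := surj m'
      exact ⟨n, ι R M m, by rw [hc, ← map_pow, symMap_ι, h, map_smul, Algebra.smul_def, mul_comm]⟩
    | mul a b ha hb =>
      obtain ⟨n, x, hx⟩ := ha
      obtain ⟨k, y, hy⟩ := hb
      exact ⟨n + k, x * y, by rw [map_mul, ← hx, ← hy, pow_add]; ring⟩
    | add a b ha hb =>
      obtain ⟨n, x, hx⟩ := ha
      obtain ⟨k, y, hy⟩ := hb
      exact ⟨n + k, x * c ^ k + y * c ^ n, by rw [map_add, map_mul, map_mul, map_pow, map_pow, ← hx, ← hy]; ring⟩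
  · have e := congrArg Ψ h
    have e' : algebraMap (SymmetricAlgebra R M) T x = algebraMap (SymmetricAlgebra R M) T y := by
      rw [← hΨ]; exact e
    exact IsLocalization.exists_of_eq e'

end Groth.Agent.SymLib
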